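import Cfsg.Agent.H971.RV.Tor
import Cfsg.Agent.H554.BS.Sigma

/-!
# R3 exceptional, piece P4 (helper808, TEAM RV)

* `rel7`, `rel8` : the relations between the involutions of the frames of `E₇`, `E₈`;
* `Ac` : the action of an element of `N(T)` on the characters, `Ac.wS` : of `ph (wS μ)`;
* `act7`, `act8` : the elements `n_b(μ) n_b'(μ')` which act on the frame as `(0 1)(2 4)` resp. `(0 1)(2 7)`.
-/

set_option autoImplicit false
set_option linter.unusedSectionVars false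

namespace Cfsg.Agent.H808.RX

open CoxeterSystem Cfsg Cfsg.Lie Cfsg.Lie.ChevalleyDatum
open Cfsg.Agent.ChevalleyStructure Cfsg.Agent.ChevalleyStructure.Elts Cfsg.Agent.ChevalleyStructure.CoxeterGeom
  Cfsg.Agent.ChevalleyStructure.CoxeterGeomTypes Cfsg.Agent.ChevalleyStructure.NPerm
open Cfsg.Agent.Tits.Roots Cfsg.Agent.Tits.Core Cfsg.Agent.Nodes Cfsg.Agent.Nodes.Reps Cfsg.Agent.Nodes.BNOf
  Cfsg.Agent.Nodes.RGDChev Cfsg.Agent.Nodes.Bruhat Cfsg.Agent.Nodes.NormalForm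
open Cfsg.Agent.KFacts.RgdField Cfsg.Agent.KFacts.RgdChevCoord
open Cfsg.Agent.BpExc Cfsg.Agent.BpExc.TorCent Cfsg.Agent.BpExc.TorChev Cfsg.Agent.BpExc.Tow
  Cfsg.Agent.BpExc.TowChev Cfsg.Agent.BpExc.Fr Cfsg.Agent.BpExc.Pair Cfsg.Agent.BpExc.LangFr Cfsg.Agent.GpExc.Field
  Cfsg.Agent.BpExc.TorAll
open Cfsg.Agent.H469.Exc Cfsg.Agent.H469.Exc.SigFr
open Cfsg.Agent.Nodes.RGDFoldSL
open Cfsg.Agent.ChevalleyStructure.SL2Hom (up lo mem_closure_SL2)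
open Cfsg.Agent.H167.EX Cfsg.Agent.H795.LangT Cfsg.Agent.H129.TorusChar Cfsg.Agent.H554.BS Cfsg.Agent.H971.RV

universe u v

section general

variable {D : ChevalleyDatum} {l : ℕ} {M : CoxeterMatrix (Fin l)} (hp : IsType D l M) {k : Type u} [Field k]
  (hk : LocFin k) (p : ℕ) [Fact p.Prime] [CharP k p]

theorem neg_one_zpow_congr {m n : ℤ} (h : (m - n) % 2 = 0) : (-1 : k) ^ m = (-1 : k) ^ n := by
  have hm1 : (-1 : k) ≠ 0 := neg_ne_zero.2 one_ne_zero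
  obtain ⟨c, hc⟩ := Int.dvd_of_emod_eq_zero h
  have e : m = n + 2 * c := by omega
  rw [e, zpow_add₀ hm1, zpow_mul]
  norm_num

include hk p in
theorem cX_zz {s : ℕ} (hs : s < D.nroots) (x : Fin l → ℤ) : cX hp (zz hp (k := k) hs) x = (-1 : k) ^ fs D l s x :=
  cX_ph_hS hp hk hs p (neg_ne_zero.2 one_ne_zero) x

include hk p in
/-- equality of two involutions of the torus -/
theorem zz_ext {s s' : ℕ} (hs : s < D.nroots) (hs' : s' < D.nroots)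
    (h : ∀ j : Fin l, (fs D l s (sr j) - fs D l s' (sr j)) % 2 = 0) : zz hp (k := k) hs = zz hp hs' := by
  refine cX_inj hp (zz_mem hp hs) (zz_mem hp hs') fun j => ?_
  rw [cX_zz hp hk p, cX_zz hp hk p]
  exact neg_one_zpow_congr (h j)

include hk p in
/-- relations between three involutions -/
theorem zz_mul {a b c : ℕ} (ha : a < D.nroots) (hb : b < D.nroots) (hc : c < D.nroots)
    (h : ∀ j : Fin l, (fs D l a (sr j) + fs D l b (sr j) - fs D l c (sr j)) % 2 = 0) :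
    zz hp (k := k) ha * zz hp hb = zz hp hc := by
  have hm1 : (-1 : k) ≠ 0 := neg_ne_zero.2 one_ne_zero
  refine cX_inj hp (mul_mem (zz_mem hp ha) (zz_mem hp hb)) (zz_mem hp hc) fun j => ?_
  rw [cX_mul hp (zz_mem hp ha) (zz_mem hp hb), cX_zz hp hk p, cX_zz hp hk p, cX_zz hp hk p, ← zpow_add₀ hm1]
  exact neg_one_zpow_congr (h j)

include hk p in
/-- relations between four involutions -/
theorem zz_mul3 {a b c d : ℕ} (ha : a < D.nroots) (hb : b < D.nroots) (hc : c < D.nroots) (hd : d < D.nroots)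
    (h : ∀ j : Fin l, (fs D l a (sr j) + fs D l b (sr j) + fs D l c (sr j) - fs D l d (sr j)) % 2 = 0) :
    zz hp (k := k) ha * zz hp hb * zz hp hc = zz hp hd := by
  have hm1 : (-1 : k) ≠ 0 := neg_ne_zero.2 one_ne_zero
  refine cX_inj hp (mul_mem (mul_mem (zz_mem hp ha) (zz_mem hp hb)) (zz_mem hp hc)) (zz_mem hp hd) fun j => ?_
  rw [cX_mul hp (mul_mem (zz_mem hp ha) (zz_mem hp hb)) (zz_mem hp hc), cX_mul hp (zz_mem hp ha) (zz_mem hp hb),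
    cX_zz hp hk p, cX_zz hp hk p, cX_zz hp hk p, cX_zz hp hk p, ← zpow_add₀ hm1, ← zpow_add₀ hm1]
  exact neg_one_zpow_congr (h j)

/-- `g` normalises the torus and acts on the characters via `ρ` -/
def Ac (g : ↥(D.group k)) (ρ : (Fin l → ℤ) → (Fin l → ℤ)) : Prop :=
  ∀ t ∈ TT D k, g * t * g⁻¹ ∈ TT D k ∧ ∀ x, cX hp (g * t * g⁻¹) x = cX hp t (ρ x)

theorem Ac.mul {g g' : ↥(D.group k)} {ρ ρ' : (Fin l → ℤ) → (Fin l → ℤ)} (h : Ac hp g ρ) (h' : Ac hp g' ρ') :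
    Ac hp (g * g') (ρ' ∘ ρ) := by
  intro t ht
  obtain ⟨h1, h2⟩ := h' t ht
  obtain ⟨h3, h4⟩ := h _ h1
  have e : g * g' * t * (g * g')⁻¹ = g * (g' * t * g'⁻¹) * g⁻¹ := by group
  rw [e]
  exact ⟨h3, fun x => by rw [h4, h2]; rfl⟩

theorem Ac.tor {t : ↥(D.group k)} (ht : t ∈ TT D k) : Ac hp t id := by
  intro s hs
  have e : t * s * t⁻¹ = s := by rw [TTab hp t ht s hs, mul_inv_cancel_right]
  rw [e]
  exact ⟨hs, fun x => rfl⟩

theorem Ac.congr {g : ↥(D.group k)} {ρ ρ' : (Fin l → ℤ) → (Fin l → ℤ)} (h : Ac hp g ρ) (e : ∀ x, ρ x = ρ' x) :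
    Ac hp g ρ' := by
  have e' : ρ = ρ' := funext e
  rwa [← e']

include hk p in
/-- the action of `ph (wS μ)` -/
theorem Ac.wS [IsAlgClosed k] {s : ℕ} (hs : s < D.nroots) {μ : k} (hμ : μ ≠ 0) : Ac hp (ph hp k hs (wS μ)) (sra D l s) := by
  have e : (RGDFoldSL.wS μ : SL k) = hS μ * RGDFoldSL.wS 1 := by
    obtain ⟨w1, w2, w3, w4⟩ := wS_entries (k := k) (t := 1) one_ne_zero
    obtain ⟨v1, v2, v3, v4⟩ := wS_entries hμ
    obtain ⟨a1, a2, a3, a4⟩ := hS_entries hμ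
    refine sl_ext ?_ ?_ ?_ ?_
    · rw [mul00, w1, w3, a1, a2, v1]; ring
    · rw [mul01, w2, w4, a1, a2, v2]; ring
    · rw [mul10, w1, w3, a3, a4, v3]; simp
    · rw [mul11, w2, w4, a3, a4, v4]; ring
  have h1 : Ac hp (ph hp k hs (RGDFoldSL.wS (1 : k))) (sra D l s) := by
    intro t ht
    have h2 := cX_wE hp hk hs p ht
    rw [wE_eq hp hs] at h2
    exact h2
  rw [e, map_mul]
  exact (Ac.tor hp (ph_hS_mem hp hs hμ)).mul hp h1

include hk p in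
/-- conjugation of the involutions -/
theorem Ac.conj_zz {g : ↥(D.group k)} {ρ : (Fin l → ℤ) → (Fin l → ℤ)} (h : Ac hp g ρ) {s s' : ℕ} (hs : s < D.nroots)
    (hs' : s' < D.nroots) (he : ∀ j : Fin l, (fs D l s (ρ (sr j)) - fs D l s' (sr j)) % 2 = 0) :
    g * zz hp (k := k) hs * g⁻¹ = zz hp hs' := by
  obtain ⟨h1, h2⟩ := h _ (zz_mem hp hs)
  refine cX_inj hp h1 (zz_mem hp hs') fun j => ?_
  rw [h2, cX_zz hp hk p, cX_zz hp hk p]
  exact neg_one_zpow_congr (he j)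

end general

/-! ### tables -/

theorem tab7 : ∀ i j : Fin 7, i ≠ j → ∃ c : Fin 7, ∀ m : Fin 7,
    (fs chevE7 7 (sE7 i) (sr m) + fs chevE7 7 (sE7 j) (sr m) - fs chevE7 7 (sE7 c) (sr m)) % 2 = 0 := by decide +kernel

theorem tab8 : ∀ i j c : Fin 8, ∃ d : Fin 8, ∀ m : Fin 8,
    (fs chevE8 8 (sE8 i) (sr m) + fs chevE8 8 (sE8 j) (sr m) + fs chevE8 8 (sE8 c) (sr m) -
      fs chevE8 8 (sE8 d) (sr m)) % 2 = 0 := by decide +kernel

/-- the permutations -/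
def w7 : Fin 7 → Fin 7 := ![1, 0, 4, 3, 2, 5, 6]
def w8 : Fin 8 → Fin 8 := ![1, 0, 7, 3, 4, 5, 6, 2]

theorem lt7a : 1 < chevE7.nroots := by decide
theorem lt7b : 17 < chevE7.nroots := by decide
theorem lt8a : 1 < chevE8.nroots := by decide
theorem lt8b : 12 < chevE8.nroots := by decide

theorem tabW7 : ∀ i : Fin 7, ∀ m : Fin 7,
    (fs chevE7 7 (sE7 i) (sra chevE7 7 17 (sra chevE7 7 1 (sr m))) - fs chevE7 7 (sE7 (w7 i)) (sr m)) % 2 = 0 := by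
  decide +kernel

theorem tabW8 : ∀ i : Fin 8, ∀ m : Fin 8,
    (fs chevE8 8 (sE8 i) (sra chevE8 8 12 (sra chevE8 8 1 (sr m))) - fs chevE8 8 (sE8 (w8 i)) (sr m)) % 2 = 0 := by
  decide +kernel

section main

variable {k : Type u} [Field k] (hk : LocFin k) (p : ℕ) [Fact p.Prime] [CharP k p]

include hk p in
theorem rel7 {M : CoxeterMatrix (Fin 7)} (hp : IsType chevE7 7 M) {hs : ∀ i, sE7 i < chevE7.nroots} (i j : Fin 7)
    (hij : i ≠ j) : ∃ c, zz hp (k := k) (hs i) * zz hp (hs j) = zz hp (hs c) := by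
  obtain ⟨c, hc⟩ := tab7 i j hij
  exact ⟨c, zz_mul hp hk p _ _ _ hc⟩

include hk p in
theorem rel8 {M : CoxeterMatrix (Fin 8)} (hp : IsType chevE8 8 M) {hs : ∀ i, sE8 i < chevE8.nroots} (i j c : Fin 8) :
    ∃ d, zz hp (k := k) (hs i) * zz hp (hs j) * zz hp (hs c) = zz hp (hs d) := by
  obtain ⟨d, hd⟩ := tab8 i j c
  exact ⟨d, zz_mul3 hp hk p _ _ _ _ hd⟩

include hk p in
theorem ac7 [IsAlgClosed k] {M : CoxeterMatrix (Fin 7)} (hp : IsType chevE7 7 M) {μ μ' : k} (hμ : μ ≠ 0) (hμ' : μ' ≠ 0) :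
    Ac hp (ph hp k lt7a (wS μ) * ph hp k lt7b (wS μ')) fun x => sra chevE7 7 17 (sra chevE7 7 1 x) :=
  (Ac.wS hp hk p lt7a hμ).mul hp (Ac.wS hp hk p lt7b hμ')

include hk p in
theorem ac8 [IsAlgClosed k] {M : CoxeterMatrix (Fin 8)} (hp : IsType chevE8 8 M) {μ μ' : k} (hμ : μ ≠ 0) (hμ' : μ' ≠ 0) :
    Ac hp (ph hp k lt8a (wS μ) * ph hp k lt8b (wS μ')) fun x => sra chevE8 8 12 (sra chevE8 8 1 x) :=
  (Ac.wS hp hk p lt8a hμ).mul hp (Ac.wS hp hk p lt8b hμ')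

include hk p in
/-- **`n₁(μ) n₁₇(μ')` permutes the involutions of the frame of `E₇` as `(0 1)(2 4)`.** -/
theorem act7 [IsAlgClosed k] {M : CoxeterMatrix (Fin 7)} (hp : IsType chevE7 7 M) {hs : ∀ i, sE7 i < chevE7.nroots}
    {μ μ' : k} (hμ : μ ≠ 0) (hμ' : μ' ≠ 0) (i : Fin 7) :
    (ph hp k lt7a (wS μ) * ph hp k lt7b (wS μ')) * zz hp (hs i) * (ph hp k lt7a (wS μ) * ph hp k lt7b (wS μ'))⁻¹ =
      zz hp (hs (w7 i)) :=
  (ac7 hk p hp hμ hμ').conj_zz hp hk p _ _ (tabW7 i)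

include hk p in
/-- **`n₁(μ) n₁₂(μ')` permutes the involutions of the frame of `E₈` as `(0 1)(2 7)`.** -/
theorem act8 [IsAlgClosed k] {M : CoxeterMatrix (Fin 8)} (hp : IsType chevE8 8 M) {hs : ∀ i, sE8 i < chevE8.nroots}
    {μ μ' : k} (hμ : μ ≠ 0) (hμ' : μ' ≠ 0) (i : Fin 8) :
    (ph hp k lt8a (wS μ) * ph hp k lt8b (wS μ')) * zz hp (hs i) * (ph hp k lt8a (wS μ) * ph hp k lt8b (wS μ'))⁻¹ =
      zz hp (hs (w8 i)) :=
  (ac8 hk p hp hμ hμ').conj_zz hp hk p _ _ (tabW8 i)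

/-- multiplying with an element of the torus does not change the action on the torus -/
theorem conj_tor {D : ChevalleyDatum} {l : ℕ} {M : CoxeterMatrix (Fin l)} (hp : IsType D l M) {g t z z' : ↥(D.group k)}
    (ht : t ∈ TT D k) (hz : z ∈ TT D k) (h : g * z * g⁻¹ = z') : (g * t) * z * (g * t)⁻¹ = z' := by
  have e : t * z * t⁻¹ = z := by rw [TTab hp t ht z hz, mul_inv_cancel_right]
  calc (g * t) * z * (g * t)⁻¹ = g * (t * z * t⁻¹) * g⁻¹ := by group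
    _ = z' := by rw [e, h]

/-- the hypothesis `hτ` for seven involutions -/
theorem tau7 {G : Type v} [Group G] {z : Fin 7 → G} (hz : ∀ i j, z i = z j → i = j) {τ : G}
    (h : ∀ i, τ * z i * τ⁻¹ = z (w7 i)) : ∃ i, τ * z i ≠ z i * τ := by
  refine ⟨0, fun h1 => ?_⟩
  have h2 := h 0
  rw [h1, mul_inv_cancel_right] at h2
  exact absurd (hz _ _ h2) (by decide)

/-- the hypothesis `hτ` for eight involutions -/
theorem tau8 {G : Type v} [Group G] {z : Fin 8 → G} (hz : ∀ i j, z i = z j → i = j) {τ : G}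
    (h : ∀ i, τ * z i * τ⁻¹ = z (w8 i)) : ∃ i j, τ * (z i * z j) ≠ (z i * z j) * τ := by
  refine ⟨0, 3, fun h1 => ?_⟩
  have h2 : τ * (z 0 * z 3) * τ⁻¹ = z 0 * z 3 := by rw [h1, mul_inv_cancel_right]
  have h3 : τ * (z 0 * z 3) * τ⁻¹ = (τ * z 0 * τ⁻¹) * (τ * z 3 * τ⁻¹) := by group
  rw [h3, h 0, h 3] at h2
  have h4 : w8 3 = 3 := rfl
  rw [h4] at h2
  exact absurd (hz _ _ (mul_right_cancel h2)) (by decide)

end main

end Cfsg.Agent.H808.RX
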